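import Mathlib.AlgebraicGeometry.Morphisms.QuasiCompact
import Mathlib.RingTheory.Ideal.MinimalPrime.Basic
import Mathlib.RingTheory.Spectrum.Prime.Topology

/-!
# Closures of images of closed sets under quasi-compact morphisms
-/

set_option autoImplicit false
set_option backward.isDefEq.respectTransparency false
set_option backward.isDefEq.respectTransparency.types false

universe u

namespace Groth.Agent.EtDescBC

open CategoryTheory AlgebraicGeometry TopologicalSpace

theorem exists_specializes_of_mem_closure_comap {A B : Type u} [CommRing A] [CommRing B] (φ : A →+* B)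
    {C : Set (PrimeSpectrum B)} (hC : IsClosed C) {v : PrimeSpectrum A}
    (hv : v ∈ closure (PrimeSpectrum.comap φ '' C)) :
    ∃ z ∈ C, PrimeSpectrum.comap φ z ⤳ v := by
  obtain ⟨I, rfl⟩ := (PrimeSpectrum.isClosed_iff_zeroLocus_ideal C).mp hC
  rw [PrimeSpectrum.closure_image_comap_zeroLocus] at hv
  obtain ⟨P, hP, hPv⟩ := Ideal.exists_minimalPrimes_le (show I.comap φ ≤ v.asIdeal from hv)
  obtain ⟨Q, hQ, hIQ, hQP⟩ := Ideal.exists_comap_eq_of_mem_minimalPrimes φ P hP
  refine ⟨⟨Q, hQ⟩, hIQ, (PrimeSpectrum.le_iff_specializes _ _).mp ?_⟩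
  show Q.comap φ ≤ v.asIdeal
  rw [hQP]
  exact hPv

/-- A point in the closure of the image of a closed set is a specialization of the image of one of its points. -/
theorem exists_specializes_of_mem_closure_image {X Y : Scheme.{u}} (q : X ⟶ Y) [QuasiCompact q] {C : Set X}
    (hC : IsClosed C) {v : Y} (hv : v ∈ closure (q '' C)) : ∃ z ∈ C, q z ⤳ v := by
  obtain ⟨D, hD, hvD, -⟩ := exists_isAffineOpen_mem_and_subset (X := Y) (x := v) (U := ⊤) trivial
  obtain ⟨R, g, hg⟩ := isCompact_iff_exists.mp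
    (q.isCompact_preimage hD.isCompact : IsCompact ((q ⁻¹ᵁ D : X.Opens) : Set X))
  obtain ⟨l, hl⟩ : ∃ l : Spec R ⟶ Spec Γ(Y, D), l ≫ hD.fromSpec = g ≫ q := by
    haveI : IsOpenImmersion hD.fromSpec := hD.isOpenImmersion_fromSpec
    refine ⟨IsOpenImmersion.lift hD.fromSpec (g ≫ q) ?_, IsOpenImmersion.lift_fac _ _ _⟩
    rintro _ ⟨x, rfl⟩
    rw [hD.range_fromSpec, Scheme.Hom.comp_apply]
    exact hg.subset ⟨x, rfl⟩
  obtain ⟨φ, rfl⟩ := Spec.map_surjective l
  have hpt : ∀ x, hD.fromSpec (PrimeSpectrum.comap φ.hom x) = q (g x) := fun x => by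
    rw [← Scheme.Hom.comp_apply g q, ← hl]
    rfl
  haveI : IsOpenImmersion hD.fromSpec := hD.isOpenImmersion_fromSpec
  obtain ⟨v', rfl⟩ : ∃ v', hD.fromSpec v' = v := by
    have : v ∈ Set.range hD.fromSpec := by rw [hD.range_fromSpec]; exact hvD
    exact this
  have hv' : v' ∈ closure (PrimeSpectrum.comap φ.hom '' (g ⁻¹' C)) := by
    rw [hD.fromSpec.isOpenEmbedding.isInducing.closure_eq_preimage_closure_image, Set.mem_preimage]
    refine closure_mono ?_ (D.2.inter_closure ⟨hvD, hv⟩)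
    rintro _ ⟨hx, z, hz, rfl⟩
    obtain ⟨x, rfl⟩ : z ∈ Set.range g := hg.symm.subset hx
    exact ⟨_, ⟨x, hz, rfl⟩, hpt x⟩
  obtain ⟨x, hx, hxv⟩ := exists_specializes_of_mem_closure_comap φ.hom (hC.preimage g.continuous) hv'
  exact ⟨g x, hx, hpt x ▸ hxv.map hD.fromSpec.continuous⟩

end Groth.Agent.EtDescBC
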