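import Groth.Agent.EtDescBC.Surj
import Groth.Agent.EtPBC0.Discrete
import Groth.Agent.EtPBC0.AcycLoc
import Groth.Agent.EtPBC0.AcycComp
import Groth.Agent.RGLib.DescDiscrete
import Groth.Agent.VarGeom.OpenMap
import Groth.Agent.S3474

/-!
# Effective descent along universally locally 0-acyclic morphisms
-/

set_option autoImplicit false

universe u

open CategoryTheory CategoryTheory.Limits AlgebraicGeometry Opposite TopologicalSpace
open Groth.Agent.BigSiteLib.DescSec Groth.Agent.EtPBC0 Groth.Agent.RGLib.DescRefine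

namespace Groth.Agent.EtDescBC

set_option backward.isDefEq.respectTransparency false
set_option backward.isDefEq.respectTransparency.types false

theorem generalizingMap_pr {X' X : Scheme.{u}} (f : X' ⟶ X) (hf : EtAcyc.IsULocZeroAcyclic f) (V : X.Etale) :
    GeneralizingMap (pr f V) :=
  generalizingMap_of_strictConn _ (strictConn_of_isULocZeroAcyclic _ fun _ _ g₂ _ _ h₂ =>
    hf g₂ _ _ (h₂.paste_horiz (IsPullback.of_hasPullback V.hom f).flip))

/-- The glued sheaf solves the descent problem. -/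
theorem isIso_psi_of_uloc {X' X : Scheme.{u}} (f : X' ⟶ X) [QuasiCompact f] [QuasiSeparated f] [Surjective f]
    (hf : EtAcyc.IsULocZeroAcyclic f) {F' : EtDesc.Sh X'}
    (φ : (EtDesc.pullSh (pullback.fst f f)).obj F' ≅ (EtDesc.pullSh (pullback.snd f f)).obj F')
    (hφ : EtDesc.IsCocycle F' φ) :
    IsIso (gluePsi f (pullback.fst f f) (pullback.snd f f) (pullback.fst f f ≫ f) rfl pullback.condition.symm φ.hom) :=
  isIso_psi f φ hφ (generalizingMap_pr f hf)
    (fun V => by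
      haveI : QuasiCompact (pr f V) := inferInstanceAs (QuasiCompact (pullback.fst V.hom f))
      haveI : Surjective (pr f V) := MorphismProperty.pullback_fst (P := @Surjective) _ _ inferInstance
      exact isQuotientMap_of_generalizing (pr f V) (generalizingMap_pr f hf V))
    (isIso_baseChange0Sh_of_univ f hf f (pullback.snd f f) (pullback.fst f f) (IsPullback.of_hasPullback f f) F')

/-- Effective descent along quasi-compact quasi-separated surjective universally locally 0-acyclic morphisms. -/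
theorem isEffective_of_uloc_qcqs {X' X : Scheme.{u}} (f : X' ⟶ X) [QuasiCompact f] [QuasiSeparated f] [Surjective f]
    (hf : EtAcyc.IsULocZeroAcyclic f) {F' : EtDesc.Sh X'}
    (φ : (EtDesc.pullSh (pullback.fst f f)).obj F' ≅ (EtDesc.pullSh (pullback.snd f f)).obj F')
    (hφ : EtDesc.IsCocycle F' φ) : EtDesc.IsEffective f F' φ := by
  let ψ := gluePsi f (pullback.fst f f) (pullback.snd f f) (pullback.fst f f ≫ f) rfl pullback.condition.symm φ.hom
  haveI : IsIso ψ := isIso_psi_of_uloc f hf φ hφ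
  refine ⟨glueSh f (pullback.fst f f) (pullback.snd f f) (pullback.fst f f ≫ f) rfl pullback.condition.symm φ.hom,
    asIso ψ, ?_⟩
  rw [canIso_eq]
  exact compat_iso _ _ ((EtDesc.pullSh (pullback.fst f f)).mapIso (asIso ψ))
    ((EtDesc.pullSh (pullback.snd f f)).mapIso (asIso ψ)) φ
    (gluePsi_compat f (pullback.fst f f) (pullback.snd f f) (pullback.fst f f ≫ f) rfl pullback.condition.symm φ.hom)

/-- Open immersions are universally locally 0-acyclic. -/
theorem isULocZeroAcyclic_of_isOpenImmersion {U X : Scheme.{u}} (j : U ⟶ X) [IsOpenImmersion j] :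
    EtAcyc.IsULocZeroAcyclic j :=
  S3474.result j (fun _ _ k => isReduced_of_isOpenImmersion (pullback.snd j k)) (Or.inr inferInstance)

/-- Composites of universally locally 0-acyclic morphisms. -/
theorem isULocZeroAcyclic_comp {X Y Z : Scheme.{u}} (g : X ⟶ Y) (h : Y ⟶ Z) (hg : EtAcyc.IsULocZeroAcyclic g)
    (hh : EtAcyc.IsULocZeroAcyclic h) : EtAcyc.IsULocZeroAcyclic (g ≫ h) := by
  intro X₁ Z₁ f₁ b' b hsq
  let h₁ := pullback.snd h b
  let g₁ : X₁ ⟶ pullback h b := pullback.lift (b' ≫ g) f₁ (by rw [Category.assoc, hsq.w])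
  have hg₁ : IsPullback b' g₁ g (pullback.fst h b) := by
    refine IsPullback.of_bot ?_ (pullback.lift_fst _ _ _).symm (IsPullback.of_hasPullback h b)
    rw [pullback.lift_snd]
    exact hsq
  have l₁ := hg g₁ _ _ hg₁
  have l₂ := hh h₁ _ _ (IsPullback.of_hasPullback h b)
  have hf₁ : g₁ ≫ h₁ = f₁ := pullback.lift_snd _ _ _
  suffices EtAcyc.IsLocZeroAcyclic (g₁ ≫ h₁) by rwa [hf₁] at this
  intro x RZ RX _ _ _ _ aZ lZ sZ _ _ _ _ _ hc
  letI : Algebra (Z₁.presheaf.stalk (h₁.base (g₁.base x))) RZ := aZ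
  haveI : IsLocalHom (algebraMap (Z₁.presheaf.stalk (h₁.base (g₁.base x))) RZ) := lZ
  haveI : Hensel.IsStrictHenselization (Z₁.presheaf.stalk (h₁.base (g₁.base x))) RZ := sZ
  haveI : HenselianLocalRing RX := Hensel.IsStrictHenselization.henselian (R := X₁.presheaf.stalk x)
  haveI : IsSepClosed (IsLocalRing.ResidueField RX) :=
    (Hensel.IsStrictHenselization.isSepClosure (R := X₁.presheaf.stalk x) (S := RX)).sep_closed
  let RY := Hensel.StrictHenz ((pullback h b).presheaf.stalk (g₁.base x))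
  obtain ⟨ψ₁, ψ₂, k₁, k₂, e₁, e₂, e₁₂⟩ := AcycLoc.exists_factor (A := Z₁.presheaf.stalk ((g₁ ≫ h₁).base x))
    (h₁.stalkMap (g₁.base x)).hom (g₁.stalkMap x).hom RZ RY RX (algebraMap RZ RX) (by
      refine hc.trans ?_
      rw [Scheme.Hom.stalkMap_comp]
      rfl)
  letI : Algebra RZ RY := ψ₁.toAlgebra
  letI : Algebra RY RX := ψ₂.toAlgebra
  haveI : IsLocalHom (algebraMap RZ RY) := k₁
  haveI : IsLocalHom (algebraMap RY RX) := k₂
  have := (AcycComp.isZeroAcyclic_comp_iff _ _ (l₁ x RY RX e₂)).1 (l₂ (g₁.base x) RZ RY e₁)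
  rw [← Spec.map_comp, ← CommRingCat.ofHom_comp] at this
  show EtAcyc.IsZeroAcyclic (Spec.map (CommRingCat.ofHom (algebraMap RZ RX)))
  rw [← e₁₂]
  exact this

section cover

variable {X' X : Scheme.{u}} (f : X' ⟶ X) {F' : EtDesc.Sh X'}
  (φ : (EtDesc.pullSh (pullback.fst f f)).obj F' ≅ (EtDesc.pullSh (pullback.snd f f)).obj F')
  (hφ : EtDesc.IsCocycle F' φ) {Ω : Type u} [Field Ω] [IsAlgClosed Ω] (ξ₀ : Spec (CommRingCat.of Ω) ⟶ X')

include hφ in
theorem locData_of_cover (V : X.Etale) (v : (Scheme.pointSmallEtale (ξ₀ ≫ f)).fiber.obj V) {W : Scheme.{u}}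
    (q : W ⟶ V.left) [Surjective q] [UniversallyOpen q] (r : W ⟶ X') (w : r ≫ f = q ≫ V.hom)
    (ω₀ : Spec (CommRingCat.of Ω) ⟶ W) (hω₀ : ω₀ ≫ q = (v.left : Spec (CommRingCat.of Ω) ⟶ V.left))
    (hψ : IsIso (gluePsi q (pullback.fst q q) (pullback.snd q q) (pullback.fst q q ≫ q) rfl pullback.condition.symm
      (pullDatum φ q V.hom r w).hom))
    (c₀ : St F' ξ₀) : LocData f φ ξ₀ c₀ := by
  have hb : ξ₀ ≫ f = (ω₀ ≫ r) ≫ f := by
    rw [Category.assoc, w, ← Category.assoc, hω₀]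
    exact (CategoryTheory.Over.w v).symm
  let φW := pullDatum φ q V.hom r w
  let cW := (stI r ω₀ F').symm (Phi φ.hom (IsPullback.of_hasPullback f f) ξ₀ (ω₀ ≫ r) hb c₀)
  haveI := hψ
  let ψW := gluePsi q (pullback.fst q q) (pullback.snd q q) (pullback.fst q q ≫ q) rfl pullback.condition.symm φW.hom
  haveI : IsIso ψW.hom := inferInstanceAs (IsIso ((sheafToPresheaf _ _).map ψW))
  have hsurj : Function.Surjective ((Scheme.pointSmallEtale ω₀).presheafFiber.map ψW.hom) :=
    ((ConcreteCategory.isIso_iff_bijective ((Scheme.pointSmallEtale ω₀).presheafFiber.map ψW.hom)).1 inferInstance).2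
  obtain ⟨e, he⟩ := hsurj cW
  obtain ⟨V₁, v₁, x, h₁, -⟩ := exists_up_germ q (η := ω₀ ≫ q) rfl _ e
  rw [h₁, psi_germ] at he
  let Y := (EtCoh.bc q).obj V₁
  let V₂ : X.Etale := MorphismProperty.Over.mk ⊤ (V₁.hom ≫ V.hom) (by
    haveI : Etale V₁.hom := V₁.prop
    haveI : Etale V.hom := V.prop
    exact inferInstanceAs (Etale (V₁.hom ≫ V.hom)))
  have hv₁ : (v₁.left : Spec (CommRingCat.of Ω) ⟶ V₁.left) ≫ V₁.hom = (v.left : Spec (CommRingCat.of Ω) ⟶ V.left) :=
    (CategoryTheory.Over.w v₁).trans hω₀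
  let v₂ : (Scheme.pointSmallEtale (ξ₀ ≫ f)).fiber.obj V₂ :=
    CategoryTheory.Over.homMk (v₁.left : Spec (CommRingCat.of Ω) ⟶ V₁.left)
      ((Category.assoc _ _ _).symm.trans ((congrArg (· ≫ V.hom) hv₁).trans (CategoryTheory.Over.w v)))
  refine ⟨V₂, v₂, Y.left, pullback.fst V₁.hom q, Y.hom ≫ r, ?_,
    (EtDesc.pullVia Y.hom r (Y.hom ≫ r) rfl F').hom.hom.app (op (EtCoh.top Y.left))
      (atPt Y.hom ((EtDesc.pullSh r).obj F') Y (𝟙 _) (Category.id_comp _) x.1),
    MorphismProperty.pullback_fst (P := @Surjective) _ _ inferInstance,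
    MorphismProperty.pullback_fst (P := @UniversallyOpen) _ _ inferInstance, ?_, ?_⟩
  · show (Y.hom ≫ r) ≫ f = pullback.fst V₁.hom q ≫ V₁.hom ≫ V.hom
    rw [Category.assoc, w, ← Category.assoc, ← Category.assoc]
    exact congrArg (· ≫ V.hom) pullback.condition.symm
  · intro Ω' _ _ ω₁ ω₂ hω h
    rw [gv_pullVia, gv_pullVia]
    let η' := (ω₁ ≫ pullback.fst V₁.hom q) ≫ V₁.hom
    let v' : (Scheme.pointSmallEtale η').fiber.obj V₁ :=
      CategoryTheory.Over.homMk (ω₁ ≫ pullback.fst V₁.hom q) rfl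
    have g₁ : (ω₁ ≫ Y.hom) ≫ q = η' :=
      (Category.assoc _ _ _).trans ((congrArg (ω₁ ≫ ·) pullback.condition.symm).trans (Category.assoc _ _ _).symm)
    have g₂ : (ω₂ ≫ Y.hom) ≫ q = η' :=
      (Category.assoc _ _ _).trans ((congrArg (ω₂ ≫ ·) pullback.condition.symm).trans
        ((Category.assoc _ _ _).symm.trans (congrArg (· ≫ V₁.hom) hω.symm)))
    let hζ₁ := (IsPullback.of_hasPullback q q).lift_fst _ _ (g₁.trans g₂.symm)
    let hζ₂ := (IsPullback.of_hasPullback q q).lift_snd _ _ (g₁.trans g₂.symm)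
    have hζ : (IsPullback.of_hasPullback q q).lift _ _ (g₁.trans g₂.symm) ≫ pullback.fst q q ≫ q = η' := by
      rw [← Category.assoc, hζ₁, g₁]
    have e := (germ_sides_iff q (pullback.fst q q) (pullback.snd q q) _ rfl pullback.condition.symm φW.hom
      (IsPullback.of_hasPullback q q) g₁ g₂ _ hζ₁ hζ₂ hζ v' x.1).1 (congrArg _ x.2)
    have f₁ : EtFound.liftPt q g₁ v' = CategoryTheory.Over.homMk ω₁ rfl :=
      fib_ext (pullback.hom_ext (EtFound.liftPt_fst q g₁ v') (pullback.lift_snd _ _ _))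
    have f₂ : EtFound.liftPt q g₂ v' = CategoryTheory.Over.homMk ω₂ rfl :=
      fib_ext (pullback.hom_ext ((EtFound.liftPt_fst q g₂ v').trans hω) (pullback.lift_snd _ _ _))
    rw [f₁, f₂] at e
    have h' : ((ω₁ ≫ Y.hom) ≫ r) ≫ f = ((ω₂ ≫ Y.hom) ≫ r) ≫ f := by
      rw [Category.assoc ω₁, Category.assoc ω₂]
      exact h
    rw [Phi_tr f φ _ (Category.assoc ω₂ Y.hom r) h', ← e, Phi_pullDatum φ q V.hom r w _ _ _ h']
  · refine ⟨(EtFound.liftPt q (η := ω₀ ≫ q) rfl v₁).left, EtFound.liftPt_fst q (η := ω₀ ≫ q) rfl v₁, ?_⟩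
    obtain ⟨l, hl⟩ : ∃ l : Spec (CommRingCat.of Ω) ⟶ Y.left,
        l = (EtFound.liftPt q (η := ω₀ ≫ q) rfl v₁).left := ⟨_, rfl⟩
    have hlY : l ≫ Y.hom = ω₀ := hl ▸ pullback.lift_snd _ _ _
    rw [← hl]
    have hlr : ω₀ ≫ r = l ≫ Y.hom ≫ r := by rw [← Category.assoc, hlY]
    refine ⟨hb.trans (congrArg (· ≫ f) hlr), ?_⟩
    rw [gv_pullVia]
    have he' : germ ((EtDesc.pullSh r).obj F') (l ≫ Y.hom) Y (CategoryTheory.Over.homMk l rfl) x.1 =
        tr _ hlY.symm cW := by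
      rw [← he]
      exact (tr_germ _ hlY.symm Y _ _ hl.symm x.1).symm
    rw [he', stI_tr, tr_tr, Equiv.apply_symm_apply]
    exact Phi_tr f φ rfl hlr hb _ c₀

end cover

/-- Effective descent along universally open surjective universally locally 0-acyclic morphisms. -/
theorem isEffective_of_uloc_open {X' X : Scheme.{u}} (f : X' ⟶ X) [Surjective f] [UniversallyOpen f]
    (hf : EtAcyc.IsULocZeroAcyclic f) {F' : EtDesc.Sh X'}
    (φ : (EtDesc.pullSh (pullback.fst f f)).obj F' ≅ (EtDesc.pullSh (pullback.snd f f)).obj F')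
    (hφ : EtDesc.IsCocycle F' φ) : EtDesc.IsEffective f F' φ := by
  refine isEffective_of_locData f φ hφ (fun V => Scheme.Hom.isOpenMap (pr f V)) fun Ω _ _ ξ₀ c₀ => ?_
  let x₀ := ξ₀.base (default : Spec (CommRingCat.of Ω))
  obtain ⟨D, hD, hxD, -⟩ := exists_isAffineOpen_mem_and_subset (U := ⊤) (x := f x₀) trivial
  obtain ⟨U, hU, hxU, hUD⟩ := exists_isAffineOpen_mem_and_subset (U := f ⁻¹ᵁ D) (x := x₀) hxD
  let N : X.Opens := ⟨f '' (U : Set X'), Scheme.Hom.isOpenMap f _ U.2⟩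
  have e : U ≤ f ⁻¹ᵁ N := fun z hz => ⟨z, hz, rfl⟩
  let q := f.resLE N U e
  haveI : CompactSpace U.toScheme := isCompact_iff_compactSpace.mp hU.isCompact
  haveI : IsAffine U.toScheme := hU
  haveI : QuasiSeparatedSpace N.toScheme := by
    have hND : (N : Set X) ⊆ D := by rintro _ ⟨z, hz, rfl⟩; exact hUD hz
    exact (isQuasiSeparated_iff_quasiSeparatedSpace _ N.2).mp (hD.isQuasiSeparated.of_subset hND)
  haveI : QuasiCompact q := inferInstance
  haveI : QuasiSeparated q := inferInstance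
  haveI : Surjective q := ⟨fun n => by
    obtain ⟨z, hz, hzn⟩ := n.2
    refine ⟨⟨z, hz⟩, N.ι.isOpenEmbedding.injective ?_⟩
    rw [← Scheme.Hom.comp_apply, Scheme.Hom.resLE_comp_ι, Scheme.Hom.comp_apply]
    exact hzn⟩
  haveI : UniversallyOpen (f ∣_ N) := MorphismProperty.of_isPullback (P := @UniversallyOpen) (isPullback_morphismRestrict f N).flip ‹_›
  haveI : UniversallyOpen q := inferInstanceAs (UniversallyOpen (X'.homOfLE e ≫ f ∣_ N))
  have hq : EtAcyc.IsULocZeroAcyclic q :=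
    isULocZeroAcyclic_comp (X'.homOfLE e) (f ∣_ N) (isULocZeroAcyclic_of_isOpenImmersion _)
      fun _ _ g₂ _ _ h₂ => hf g₂ _ _ (h₂.paste_horiz (isPullback_morphismRestrict f N).flip)
  let V : X.Etale := MorphismProperty.Over.mk ⊤ N.ι (inferInstanceAs (Etale N.ι))
  have hr : Set.range ξ₀.base ⊆ Set.range U.ι.base := by
    rintro _ ⟨z, rfl⟩
    rw [Scheme.Opens.range_ι, Subsingleton.elim z default]
    exact hxU
  let ω₀ : Spec (CommRingCat.of Ω) ⟶ U.toScheme := IsOpenImmersion.lift U.ι ξ₀ hr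
  have hω₀ : ω₀ ≫ U.ι = ξ₀ := IsOpenImmersion.lift_fac _ _ _
  have w : U.ι ≫ f = q ≫ N.ι := (Scheme.Hom.resLE_comp_ι f e).symm
  let v : (Scheme.pointSmallEtale (ξ₀ ≫ f)).fiber.obj V := CategoryTheory.Over.homMk (ω₀ ≫ q)
    ((Category.assoc _ _ _).trans ((congrArg (ω₀ ≫ ·) w.symm).trans
      ((Category.assoc _ _ _).symm.trans (congrArg (· ≫ f) hω₀))))
  exact locData_of_cover f φ hφ ξ₀ V v q U.ι w ω₀ rfl
    (isIso_psi_of_uloc q hq _ (isCocycle_pullDatum φ q N.ι U.ι w hφ)) c₀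

/-- A morphism to a discrete scheme is universally open. -/
theorem universallyOpen_of_discrete {X Y : Scheme.{u}} (g : X ⟶ Y) [DiscreteTopology Y] : UniversallyOpen g := by
  refine (IsZariskiLocalAtTarget.iff_of_iSup_eq_top (P := @UniversallyOpen) (fun y : Y => (⟨{y}, isOpen_discrete _⟩ : Y.Opens))
    (eq_top_iff.mpr fun y _ => Opens.mem_iSup.mpr ⟨y, rfl⟩)).mpr fun y => ?_
  let U : Y.Opens := ⟨{y}, isOpen_discrete _⟩
  haveI : Subsingleton U.toScheme := ⟨fun a b => Subtype.ext ((a.2 : _ = y).trans (b.2 : _ = y).symm)⟩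
  obtain ⟨Ω, _, _, τ, -⟩ := exists_geom_point (Q := U.toScheme) ⟨y, rfl⟩
  haveI := universallyOpen_of_subsingleton τ
  haveI : Surjective τ := ⟨fun z => ⟨default, Subsingleton.elim (α := U.toScheme) _ _⟩⟩
  haveI : Surjective (pullback.fst (g ∣_ U) τ) := MorphismProperty.pullback_fst (P := @Surjective) _ _ inferInstance
  haveI : UniversallyOpen (pullback.snd (g ∣_ U) τ) := VarGeom.universallyOpen_of_field _
  haveI hc : UniversallyOpen (pullback.fst (g ∣_ U) τ ≫ g ∣_ U) := by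
    rw [pullback.condition]
    infer_instance
  refine ⟨fun T S i₁ i₂ h hsq => ?_⟩
  let a := pullback.fst i₁ (pullback.fst (g ∣_ U) τ)
  haveI : Surjective a := MorphismProperty.pullback_fst (P := @Surjective) _ _ inferInstance
  have h₂ := hc.universally_isOpenMap _ _ _ ((IsPullback.of_hasPullback i₁ (pullback.fst (g ∣_ U) τ)).paste_horiz hsq)
  intro O hO
  have h₃ := h₂ _ (hO.preimage a.continuous)
  rwa [Scheme.Hom.comp_base, TopCat.coe_comp, Set.image_comp, Set.image_preimage_eq _ a.surjective] at h₃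

end Groth.Agent.EtDescBC
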