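import Groth.Agent.RGLib.DescFppf
import Groth.Agent.EtPBC0.UnivBC
import Groth.Agent.EtDescBC.Closure

/-!
# Descent of etale sheaves of sets along morphisms satisfying base change in degree zero
-/

set_option autoImplicit false

universe u

open CategoryTheory CategoryTheory.Limits AlgebraicGeometry Opposite TopologicalSpace
open Groth.Agent.BigSiteLib.DescSec Groth.Agent.EtPBC0 Groth.Agent.RGLib.DescRefine

namespace Groth.Agent.EtDescBC

set_option backward.isDefEq.respectTransparency false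
set_option backward.isDefEq.respectTransparency.types false

variable {X' X : Scheme.{u}} (f : X' ⟶ X) {F' : EtDesc.Sh X'}
  (φ : (EtDesc.pullSh (pullback.fst f f)).obj F' ≅ (EtDesc.pullSh (pullback.snd f f)).obj F')

local notation "pb" => IsPullback.of_hasPullback f f
local notation "Gl" => glueSh f (pullback.fst f f) (pullback.snd f f) (pullback.fst f f ≫ f) rfl pullback.condition.symm φ.hom
local notation "ψψ" => gluePsi f (pullback.fst f f) (pullback.snd f f) (pullback.fst f f ≫ f) rfl pullback.condition.symm φ.hom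

/-- The comparison on the double product of sections over a neighbourhood. -/
def PairEq (V : X.Etale) (x : ToType (F'.obj.obj (op ((EtCoh.bc f).obj V)))) (W : X'.Etale)
    (m : W ⟶ (EtCoh.bc f).obj V) (sW : ToType (F'.obj.obj (op W))) : Prop :=
  φ.hom.hom.app (op ((EtCoh.bc (pullback.snd f f)).obj W))
      (((EtDesc.pullSh (pullback.fst f f)).obj F').obj.map
        ((EtCoh.bc (pullback.snd f f)).map m ≫ EtFound.bcSquare pullback.condition V).op
        (up (pullback.fst f f) F' ((EtCoh.bc f).obj V) x)) =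
    up (pullback.snd f f) F' W sW

theorem exists_pairEq {Ω : Type u} [Field Ω] [IsSepClosed Ω] (ξ₀ : Spec (CommRingCat.of Ω) ⟶ X')
    (hbc : IsIso (EtBC.baseChange0Sh f f (pullback.snd f f) (pullback.fst f f) pullback.condition F')) (c₀ : St F' ξ₀) :
    ∃ (V : X.Etale) (v : (Scheme.pointSmallEtale (ξ₀ ≫ f)).fiber.obj V)
      (x : ToType (F'.obj.obj (op ((EtCoh.bc f).obj V)))) (W : X'.Etale) (m : W ⟶ (EtCoh.bc f).obj V)
      (ww : (Scheme.pointSmallEtale ξ₀).fiber.obj W) (sW : ToType (F'.obj.obj (op W))),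
      (Scheme.pointSmallEtale ξ₀).fiber.map m ww = EtFound.liftPt f (η := ξ₀ ≫ f) rfl v ∧
        germ F' ξ₀ W ww sW = c₀ ∧ PairEq f φ V x W m sW := by
  let β := EtBC.baseChange0Sh f f (pullback.snd f f) (pullback.fst f f) pullback.condition F'
  let H := (EtDesc.pushSh (pullback.snd f f)).obj ((EtDesc.pullSh (pullback.fst f f)).obj F')
  obtain ⟨U, u, s₀, rfl⟩ := germ_surjective F' ξ₀ c₀
  let y : ToType (H.obj.obj (op U)) := φ.inv.hom.app (op ((EtCoh.bc (pullback.snd f f)).obj U)) (up (pullback.snd f f) F' U s₀)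
  haveI : IsIso β.hom := inferInstanceAs (IsIso ((sheafToPresheaf _ _).map β))
  have hβ : Function.Bijective ((Scheme.pointSmallEtale ξ₀).presheafFiber.map β.hom) :=
    (ConcreteCategory.isIso_iff_bijective ((Scheme.pointSmallEtale ξ₀).presheafFiber.map β.hom)).1 inferInstance
  obtain ⟨e, he⟩ := hβ.2 (germ H ξ₀ U u y)
  obtain ⟨V, v, x, hx, -⟩ := exists_up_germ f (η := ξ₀ ≫ f) rfl _ e
  rw [hx, germ_natural, baseChange0Sh_up] at he
  let t := EtFound.liftPt f (η := ξ₀ ≫ f) rfl v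
  obtain ⟨⟨W₀, w₀⟩, ⟨α, hα⟩, ⟨γ, hγ⟩, -⟩ := IsCofilteredOrEmpty.cone_objs
    ((Scheme.pointSmallEtale ξ₀).fiber.elementsMk ((EtCoh.bc f).obj V) t) ((Scheme.pointSmallEtale ξ₀).fiber.elementsMk U u)
  obtain ⟨α', hα'⟩ : ∃ α' : W₀ ⟶ (EtCoh.bc f).obj V, (Scheme.pointSmallEtale ξ₀).fiber.map α' w₀ = t := ⟨α, hα⟩
  obtain ⟨γ', hγ'⟩ : ∃ γ' : W₀ ⟶ U, (Scheme.pointSmallEtale ξ₀).fiber.map γ' w₀ = u := ⟨γ, hγ⟩
  let a : ToType (H.obj.obj (op ((EtCoh.bc f).obj V))) := ((EtDesc.pullSh (pullback.fst f f)).obj F').obj.map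
    (EtFound.bcSquare pullback.condition V).op (up (pullback.fst f f) F' ((EtCoh.bc f).obj V) x)
  replace he : germ H ξ₀ ((EtCoh.bc f).obj V) t a = germ H ξ₀ U u y := he
  rw [← hα', ← hγ', ← germ_map, ← germ_map] at he
  obtain ⟨W, k, ww, hk, hE⟩ := ((Scheme.pointSmallEtale ξ₀).toPresheafFiber_eq_iff' (P := H.obj) W₀ w₀ _ _).1 he
  refine ⟨V, v, x, W, k ≫ α', ww, F'.obj.map (k ≫ γ').op s₀, ?_, ?_, ?_⟩
  · rw [Functor.map_comp_apply, hk, hα']
  · rw [germ_map, Functor.map_comp_apply, hk, hγ']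
  · unfold PairEq
    replace hE : H.obj.map (k ≫ α').op a = H.obj.map (k ≫ γ').op y := by
      rw [op_comp, op_comp, Functor.map_comp_apply, Functor.map_comp_apply]
      exact hE
    have hy : φ.hom.hom.app (op ((EtCoh.bc (pullback.snd f f)).obj U)) y = up (pullback.snd f f) F' U s₀ :=
      ConcreteCategory.congr_hom (congrArg (fun q : (EtDesc.pullSh (pullback.snd f f)).obj F' ⟶ (EtDesc.pullSh (pullback.snd f f)).obj F' => q.hom.app (op ((EtCoh.bc (pullback.snd f f)).obj U))) φ.inv_hom_id)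
        (up (pullback.snd f f) F' U s₀)
    rw [up_map, ← hy, op_comp, Functor.map_comp_apply]
    refine (congrArg _ (hE : ((EtDesc.pullSh (pullback.fst f f)).obj F').obj.map
      ((EtCoh.bc (pullback.snd f f)).map (k ≫ α')).op a = _)).trans ?_
    exact NatTrans.naturality_apply φ.hom.hom ((EtCoh.bc (pullback.snd f f)).map (k ≫ γ')).op y

theorem phi_pairEq {V : X.Etale} {x : ToType (F'.obj.obj (op ((EtCoh.bc f).obj V)))} {W : X'.Etale}
    {m : W ⟶ (EtCoh.bc f).obj V} {sW : ToType (F'.obj.obj (op W))} (hE : PairEq f φ V x W m sW)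
    {Ω : Type u} [Field Ω] [IsSepClosed Ω] {η : Spec (CommRingCat.of Ω) ⟶ X}
    (ξ ξ₂ : Spec (CommRingCat.of Ω) ⟶ X') (h₁ : ξ ≫ f = η) (h₂ : ξ₂ ≫ f = η)
    (v : (Scheme.pointSmallEtale η).fiber.obj V) (ww : (Scheme.pointSmallEtale ξ₂).fiber.obj W)
    (hw : (Scheme.pointSmallEtale ξ₂).fiber.map m ww = EtFound.liftPt f h₂ v) :
    Phi φ.hom pb ξ ξ₂ (h₁.trans h₂.symm) (germ F' ξ ((EtCoh.bc f).obj V) (EtFound.liftPt f h₁ v) x) =
      germ F' ξ₂ W ww sW := by
  obtain ⟨ζ, hζ₁, hζ₂⟩ : ∃ ζ : Spec (CommRingCat.of Ω) ⟶ pullback f f,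
      ζ ≫ pullback.fst f f = ξ ∧ ζ ≫ pullback.snd f f = ξ₂ :=
    ⟨pullback.lift ξ ξ₂ (h₁.trans h₂.symm), pullback.lift_fst _ _ _, pullback.lift_snd _ _ _⟩
  subst hζ₁ hζ₂
  rw [Phi_eq φ.hom pb _ ζ rfl rfl, tr_rfl, tr_rfl]
  let t := (EtFound.bcFiberEquiv (pullback.snd f f) ζ W).symm ww
  have key := (germ_phi_iff φ.hom ζ ((EtCoh.bc (pullback.snd f f)).map m ≫ EtFound.bcSquare pullback.condition V)
    (𝟙 _) t x sW).1 (by
      rw [op_id, CategoryTheory.Functor.map_id]
      exact congrArg (germ ((EtDesc.pullSh (pullback.snd f f)).obj F') ζ _ t) hE)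
  rw [Functor.map_id_apply, Equiv.apply_symm_apply] at key
  refine Eq.trans ?_ key
  congr 2
  refine fib_ext ?_
  rw [bcFiberEquiv_left]
  have hwl : (ww.left : Spec (CommRingCat.of Ω) ⟶ W.left) ≫ m.left =
      ((EtFound.liftPt f h₂ v).left : Spec (CommRingCat.of Ω) ⟶ ((EtCoh.bc f).obj V).left) :=
    congrArg (fun q : (Scheme.pointSmallEtale (ζ ≫ pullback.snd f f)).fiber.obj ((EtCoh.bc f).obj V) =>
      (q.left : Spec (CommRingCat.of Ω) ⟶ ((EtCoh.bc f).obj V).left)) hw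
  refine pullback.hom_ext ?_ ?_
  · refine (EtFound.liftPt_fst f h₁ v).trans ?_
    refine Eq.symm ((Category.assoc _ _ _).trans ?_)
    show ((t.left : Spec (CommRingCat.of Ω) ⟶ _) ≫ ((EtCoh.bc (pullback.snd f f)).map m).left ≫
      (EtFound.bcSquare pullback.condition V).left) ≫ _ ≫ _ = _
    simp only [Category.assoc]
    refine (congrArg (fun k => (t.left : Spec (CommRingCat.of Ω) ⟶ pullback W.hom (pullback.snd f f)) ≫
      ((EtCoh.bc (pullback.snd f f)).map m).left ≫ k) (EtFound.bcSquare_fst pullback.condition V)).trans ?_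
    refine Eq.trans ?_ ((congrArg (· ≫ pullback.fst V.hom f) hwl).trans (EtFound.liftPt_fst f h₂ v))
    refine Eq.trans ?_ (congrArg (fun q => (q ≫ m.left) ≫ pullback.fst V.hom f)
      (bcFiberEquiv_symm_left (pullback.snd f f) ζ W ww))
    refine (congrArg (_ ≫ ·) ((Category.assoc _ _ _).symm.trans (congrArg (· ≫ pullback.fst V.hom f)
      (pullback.lift_fst _ _ _)))).trans ?_
    simp only [Category.assoc]
    rfl
  · refine (pullback.lift_snd _ _ _).trans ?_
    refine Eq.symm ((Category.assoc _ _ _).trans ?_)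
    refine (congrArg (_ ≫ ·) (pullback.condition (f := ((EtCoh.bc f).obj V).hom) (g := pullback.fst f f))).trans ?_
    refine (Category.assoc _ _ _).symm.trans (congrArg (· ≫ pullback.fst f f) ?_)
    exact CategoryTheory.Over.w ((Scheme.pointSmallEtale ζ).fiber.map
      ((EtCoh.bc (pullback.snd f f)).map m ≫ EtFound.bcSquare pullback.condition V) t)

variable (hφ : EtDesc.IsCocycle F' φ) {Ω : Type u} [Field Ω] [IsAlgClosed Ω] (ξ₀ : Spec (CommRingCat.of Ω) ⟶ X')

include hφ in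
theorem psi_stalk_surjective [QuasiCompact f] (hgen : ∀ V : X.Etale, GeneralizingMap (pr f V))
    (hbc : IsIso (EtBC.baseChange0Sh f f (pullback.snd f f) (pullback.fst f f) pullback.condition F')) :
    Function.Surjective ((Scheme.pointSmallEtale ξ₀).presheafFiber.map (ψψ).hom) := by
  intro c₀
  let η := ξ₀ ≫ f
  obtain ⟨V, v, x, W, m, ww, sW, hmw, hsW, hE⟩ := exists_pairEq f φ ξ₀ hbc c₀
  let b := pullback.fst f f ≫ f
  let L := {z : ((EtCoh.bc b).obj V).left |
    LocEq ((EtDesc.pullSh (pullback.snd f f)).obj F').obj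
      (lhs f (pullback.fst f f) (pullback.snd f f) b rfl φ.hom V x)
      (side b (pullback.snd f f) f pullback.condition.symm F' V x) z}
  haveI : QuasiCompact b := inferInstanceAs (QuasiCompact (pullback.fst f f ≫ f))
  haveI : QuasiCompact (pullback.fst V.hom b) := inferInstance
  let q := pullback.fst V.hom b
  let N : V.left.Opens := ⟨(closure (q '' Lᶜ))ᶜ, isClosed_closure.isOpen_compl⟩
  let v₀ := (v.left : Spec (CommRingCat.of Ω) ⟶ V.left).base (default : Spec (CommRingCat.of Ω))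
  let a : W.left ⟶ V.left := m.left ≫ pullback.fst V.hom f
  have hav : a ((ww.left : Spec (CommRingCat.of Ω) ⟶ W.left).base (default : Spec (CommRingCat.of Ω))) = v₀ := by
    have h := congrArg (fun k : (Scheme.pointSmallEtale ξ₀).fiber.obj ((EtCoh.bc f).obj V) =>
      (k.left : Spec (CommRingCat.of Ω) ⟶ ((EtCoh.bc f).obj V).left) ≫ pullback.fst V.hom f) hmw
    refine (Scheme.Hom.comp_apply _ _ _).symm.trans ?_
    exact congrArg (fun k : Spec (CommRingCat.of Ω) ⟶ V.left => k.base (default : Spec (CommRingCat.of Ω)))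
      ((Category.assoc _ _ _).symm.trans (h.trans (EtFound.liftPt_fst f (η := η) rfl v)))
  have hv : v₀ ∈ N := by
    intro hmem
    obtain ⟨z, hzL, hzv⟩ := exists_specializes_of_mem_closure_image q (isOpen_locEq _ _).isClosed_compl hmem
    haveI : Etale m.left := EtFound.etale_left m
    obtain ⟨w', -, hw'⟩ : ∃ w', w' ⤳ (ww.left : Spec (CommRingCat.of Ω) ⟶ W.left).base (default : Spec (CommRingCat.of Ω)) ∧
        a w' = q z := by
      have hga : GeneralizingMap a := by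
        rw [show a = m.left ≫ pullback.fst V.hom f from rfl, Scheme.Hom.comp_base, TopCat.coe_comp]
        exact (Flat.generalizingMap (f := m.left)).comp (hgen V)
      exact hga (hav.symm ▸ hzv)
    obtain ⟨p, hp₁, hp₂⟩ := Scheme.Pullback.exists_preimage_pullback (f := q) (g := a) z w' hw'.symm
    obtain ⟨Ω', _, _, τ, hτ⟩ := exists_geom_point p
    let l := τ ≫ pullback.fst q a
    let lw := τ ≫ pullback.snd q a
    let ζ := l ≫ pullback.snd V.hom b
    let η' := ζ ≫ b
    let v' : (Scheme.pointSmallEtale η').fiber.obj V := CategoryTheory.Over.homMk (l ≫ q)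
      ((Category.assoc _ _ _).trans ((congrArg (l ≫ ·) pullback.condition).trans (Category.assoc _ _ _).symm))
    have g₁ : (ζ ≫ pullback.fst f f) ≫ f = η' := Category.assoc _ _ _
    have g₂ : (ζ ≫ pullback.snd f f) ≫ f = η' :=
      (Category.assoc _ _ _).trans (congrArg (ζ ≫ ·) pullback.condition.symm)
    let ww' : (Scheme.pointSmallEtale (lw ≫ W.hom)).fiber.obj W := CategoryTheory.Over.homMk lw rfl
    have hlw : lw ≫ a = l ≫ q :=
      (Category.assoc _ _ _).trans ((congrArg (τ ≫ ·) pullback.condition.symm).trans (Category.assoc _ _ _).symm)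
    have g₃ : (lw ≫ W.hom) ≫ f = η' := by
      refine ((congrArg (fun k => (lw ≫ k) ≫ f) (MorphismProperty.Over.w m).symm).trans ?_)
      refine ((Category.assoc _ _ _).trans ((congrArg (lw ≫ ·) ((Category.assoc _ _ _).trans
        ((congrArg (m.left ≫ ·) pullback.condition.symm).trans (Category.assoc _ _ _).symm))).trans
          ((Category.assoc _ _ _).symm.trans (congrArg (· ≫ V.hom) hlw)))).trans ?_
      exact CategoryTheory.Over.w v'
    have hm' : (Scheme.pointSmallEtale (lw ≫ W.hom)).fiber.map m ww' = EtFound.liftPt f g₃ v' := by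
      refine fib_ext (pullback.hom_ext ?_ ?_)
      · exact (Category.assoc _ _ _).trans (hlw.trans (EtFound.liftPt_fst f g₃ v').symm)
      · exact (Category.assoc _ _ _).trans
          ((congrArg (lw ≫ ·) (MorphismProperty.Over.w m)).trans (pullback.lift_snd _ _ _).symm)
    have e₁ := phi_pairEq f φ hE _ _ g₁ g₃ v' ww' hm'
    have e₂ := phi_pairEq f φ hE _ _ g₂ g₃ v' ww' hm'
    have hz : ((EtFound.liftPt b (η := η') rfl v').left : Spec (CommRingCat.of Ω') ⟶ ((EtCoh.bc b).obj V).left).base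
        (default : Spec (CommRingCat.of Ω')) = z := by
      refine (congrArg (fun k : Spec (CommRingCat.of Ω') ⟶ pullback V.hom b => k.base (default : Spec (CommRingCat.of Ω')))
        (?_ : _ = l)).trans ((Scheme.Hom.comp_apply _ _ _).trans ((congrArg _ hτ).trans hp₁))
      exact pullback.hom_ext (EtFound.liftPt_fst b (η := η') rfl v') (pullback.lift_snd _ _ _)
    refine hzL (locEq_of_germ ζ (EtFound.liftPt b (η := η') rfl v') ?_ z hz)
    refine (germ_sides_iff f (pullback.fst f f) (pullback.snd f f) b rfl pullback.condition.symm φ.hom pb g₁ g₂ ζ rfl rfl rfl v' x).2 ?_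
    have h := congrArg (Phi φ.hom pb (lw ≫ W.hom) (ζ ≫ pullback.snd f f) (g₃.trans g₂.symm)) (e₁.trans e₂.symm)
    rw [Phi_trans f φ hφ, Phi_trans f φ hφ, Phi_self f φ hφ] at h
    exact h
  let j := EtFound.restrictEtaleHom V N
  obtain ⟨v₁, hv₁, -⟩ := EtFound.exists_lift_point j v ⟨_, hv⟩ rfl
  let x' : ToType ((Gl).obj.obj (op (EtFound.restrictEtale V N))) :=
    ⟨F'.obj.map ((EtCoh.bc f).map j).op x, eq_of_locEq _ fun z => by
      rw [lhs_map, side_map]
      refine LocEq.map _ (Classical.byContradiction fun hz => ?_)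
      exact (pr b (EtFound.restrictEtale V N) z).2 (subset_closure ⟨_, hz, pr_map b j z⟩)⟩
  refine ⟨germ ((EtDesc.pullSh f).obj Gl) ξ₀ ((EtCoh.bc f).obj (EtFound.restrictEtale V N))
    (EtFound.liftPt f (η := η) rfl v₁) (up f Gl (EtFound.restrictEtale V N) x'), ?_⟩
  rw [psi_germ]
  show germ F' ξ₀ _ (EtFound.liftPt f (η := η) rfl v₁) (F'.obj.map ((EtCoh.bc f).map j).op x) = c₀
  rw [germ_map, EtFound.liftPt_map, hv₁]
  have h := phi_pairEq f φ hE ξ₀ ξ₀ (η := η) rfl rfl v ww hmw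
  rw [Phi_self f φ hφ] at h
  exact h.trans hsW

variable (hq : ∀ V : X.Etale, Topology.IsQuotientMap (pr f V))

include hq in
theorem psi_stalk_injective :
    Function.Injective ((Scheme.pointSmallEtale ξ₀).presheafFiber.map (ψψ).hom) := by
  intro e₁ e₂ he
  let η := ξ₀ ≫ f
  obtain ⟨V₁, v₁, x₁, h₁, k₁⟩ := exists_up_germ f (η := η) rfl Gl e₁
  obtain ⟨V₂, v₂, x₂, h₂, k₂⟩ := exists_up_germ f (η := η) rfl Gl e₂
  rw [h₁, h₂, psi_germ, psi_germ] at he
  refine (stI f ξ₀ Gl).injective ?_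
  rw [tr_rfl] at k₁ k₂
  rw [k₁, k₂]
  obtain ⟨⟨V, v⟩, ⟨a₁, ha₁⟩, ⟨a₂, ha₂⟩, -⟩ := IsCofilteredOrEmpty.cone_objs
    ((Scheme.pointSmallEtale η).fiber.elementsMk V₁ v₁) ((Scheme.pointSmallEtale η).fiber.elementsMk V₂ v₂)
  obtain ⟨a₁', ha₁'⟩ : ∃ a : V ⟶ V₁, (Scheme.pointSmallEtale η).fiber.map a v = v₁ := ⟨a₁, ha₁⟩
  obtain ⟨a₂', ha₂'⟩ : ∃ a : V ⟶ V₂, (Scheme.pointSmallEtale η).fiber.map a v = v₂ := ⟨a₂, ha₂⟩
  rw [← ha₁', ← ha₂', ← germ_map, ← germ_map]
  let y₁ := (Gl).obj.map a₁'.op x₁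
  let y₂ := (Gl).obj.map a₂'.op x₂
  have hy : germ F' ξ₀ _ (EtFound.liftPt f (η := η) rfl v) y₁.1 =
      germ F' ξ₀ _ (EtFound.liftPt f (η := η) rfl v) y₂.1 := by
    show germ F' ξ₀ _ _ (F'.obj.map ((EtCoh.bc f).map a₁').op x₁.1) =
      germ F' ξ₀ _ _ (F'.obj.map ((EtCoh.bc f).map a₂').op x₂.1)
    rw [germ_map, germ_map, EtFound.liftPt_map, EtFound.liftPt_map, ha₁', ha₂']
    exact he
  let L := {z : ↥(((EtCoh.bc f).obj V).left) | LocEq F'.obj y₁.1 y₂.1 z}
  have hsat : ∀ z₁ z₂ : ↥(((EtCoh.bc f).obj V).left), pr f V z₁ = pr f V z₂ → z₁ ∈ L → z₂ ∈ L := by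
    intro z₁ z₂ hz hz₁
    obtain ⟨z, hzl, hzr⟩ := Scheme.Pullback.exists_preimage_pullback (f := pr f V) (g := pr f V) z₁ z₂ hz
    obtain ⟨Ω', _, _, τ, hτ⟩ := exists_geom_point z
    let l₁ := τ ≫ pullback.fst (pr f V) (pr f V)
    let l₂ := τ ≫ pullback.snd (pr f V) (pr f V)
    let η' := (l₁ ≫ pr f V) ≫ V.hom
    let v' : (Scheme.pointSmallEtale η').fiber.obj V := CategoryTheory.Over.homMk (l₁ ≫ pr f V) rfl
    have e₂₁ : l₂ ≫ pr f V = l₁ ≫ pr f V := by simp only [l₁, l₂, Category.assoc, pullback.condition]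
    have g₁ : (l₁ ≫ pullback.snd V.hom f) ≫ f = η' :=
      (Category.assoc _ _ _).trans ((congrArg (l₁ ≫ ·) pullback.condition.symm).trans (Category.assoc _ _ _).symm)
    have g₂ : (l₂ ≫ pullback.snd V.hom f) ≫ f = η' :=
      (Category.assoc _ _ _).trans ((congrArg (l₂ ≫ ·) pullback.condition.symm).trans
        ((Category.assoc _ _ _).symm.trans (congrArg (· ≫ V.hom) e₂₁)))
    have hl₁ : ((EtFound.liftPt f g₁ v').left : Spec (CommRingCat.of Ω') ⟶ ((EtCoh.bc f).obj V).left).base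
        (default : Spec (CommRingCat.of Ω')) = z₁ := by
      refine (congrArg (fun k : Spec (CommRingCat.of Ω') ⟶ pullback V.hom f => k.base (default : Spec (CommRingCat.of Ω')))
        (?_ : _ = l₁)).trans ((Scheme.Hom.comp_apply _ _ _).trans ((congrArg _ hτ).trans hzl))
      exact pullback.hom_ext (EtFound.liftPt_fst f g₁ v') (pullback.lift_snd _ _ _)
    have hl₂ : ((EtFound.liftPt f g₂ v').left : Spec (CommRingCat.of Ω') ⟶ ((EtCoh.bc f).obj V).left).base
        (default : Spec (CommRingCat.of Ω')) = z₂ := by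
      refine (congrArg (fun k : Spec (CommRingCat.of Ω') ⟶ pullback V.hom f => k.base (default : Spec (CommRingCat.of Ω')))
        (?_ : _ = l₂)).trans ((Scheme.Hom.comp_apply _ _ _).trans ((congrArg _ hτ).trans hzr))
      exact pullback.hom_ext ((EtFound.liftPt_fst f g₂ v').trans e₂₁.symm) (pullback.lift_snd _ _ _)
    have key : ∀ y : ToType ((Gl).obj.obj (op V)),
        Phi φ.hom pb _ _ (g₁.trans g₂.symm) (germ F' _ _ (EtFound.liftPt f g₁ v') y.1) =
          germ F' _ _ (EtFound.liftPt f g₂ v') y.1 := fun y => by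
      let hζ₁ := (pb).lift_fst _ _ (g₁.trans g₂.symm)
      let hζ₂ := (pb).lift_snd _ _ (g₁.trans g₂.symm)
      have hζ : (pb).lift _ _ (g₁.trans g₂.symm) ≫ pullback.fst f f ≫ f = η' := by rw [← Category.assoc, hζ₁, g₁]
      refine (germ_sides_iff f (pullback.fst f f) (pullback.snd f f) _ rfl pullback.condition.symm φ.hom pb g₁ g₂ _ hζ₁ hζ₂ hζ v' y.1).1 ?_
      exact congrArg _ y.2
    refine locEq_of_germ _ (EtFound.liftPt f g₂ v') ?_ z₂ hl₂
    refine (key y₁).symm.trans (Eq.trans ?_ (key y₂))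
    exact congrArg _ (germ_eq_of_locEq' F' hz₁ _ (EtFound.liftPt f g₁ v') hl₁)
  let N : V.left.Opens := ⟨pr f V '' L, (hq V).isCoinducing.isOpen_preimage.mp (by rw [show pr f V ⁻¹' (pr f V '' L) = L from Set.ext fun z₂ => ⟨fun ⟨z₁, hz₁, hz⟩ => hsat z₁ z₂ hz hz₁, fun hz => ⟨z₂, hz, rfl⟩⟩]; exact isOpen_locEq _ _)⟩
  have hv : (v.left : Spec (CommRingCat.of Ω) ⟶ V.left).base (default : Spec (CommRingCat.of Ω)) ∈ N := by
    refine ⟨((EtFound.liftPt f (η := η) rfl v).left : Spec (CommRingCat.of Ω) ⟶ ((EtCoh.bc f).obj V).left).base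
      (default : Spec (CommRingCat.of Ω)), locEq_of_germ ξ₀ _ hy _ rfl, ?_⟩
    exact (Scheme.Hom.comp_apply _ _ _).symm.trans
      (congrArg (fun k : Spec (CommRingCat.of Ω) ⟶ V.left => k.base (default : Spec (CommRingCat.of Ω)))
        (EtFound.liftPt_fst f (η := η) rfl v))
  obtain ⟨v', hv', -⟩ := EtFound.exists_lift_point (EtFound.restrictEtaleHom V N) v ⟨_, hv⟩ rfl
  have hx : (Gl).obj.map (EtFound.restrictEtaleHom V N).op y₁ = (Gl).obj.map (EtFound.restrictEtaleHom V N).op y₂ := by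
    refine Subtype.ext (eq_of_locEq F' fun z => LocEq.map _ ?_)
    let p := ((EtCoh.bc f).map (EtFound.restrictEtaleHom V N)).left z
    obtain ⟨z₁, hz₁, hz⟩ : pr f V p ∈ N := by
      rw [pr_map f (EtFound.restrictEtaleHom V N) z]
      exact Subtype.coe_prop _
    exact hsat z₁ p hz hz₁
  show germ Gl η V v y₁ = germ Gl η V v y₂
  rw [← hv', ← germ_map, ← germ_map, hx]

include hφ in
/-- Effective descent along quasi-compact morphisms with base change in degree zero. -/
theorem isIso_psi [QuasiCompact f] (hgen : ∀ V : X.Etale, GeneralizingMap (pr f V)) (hq : ∀ V : X.Etale, Topology.IsQuotientMap (pr f V))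
    (hbc : IsIso (EtBC.baseChange0Sh f f (pullback.snd f f) (pullback.fst f f) pullback.condition F')) : IsIso (ψψ) := by
  refine EtFound.isIso_of_stalks _ fun Ω₀ _ _ ξ => ?_
  let Ω := AlgebraicClosure Ω₀
  let l : Spec (CommRingCat.of Ω) ⟶ Spec (CommRingCat.of Ω₀) :=
    Spec.map (CommRingCat.ofHom (algebraMap Ω₀ Ω))
  have : IsIso ((Scheme.pointSmallEtale (l ≫ ξ)).sheafFiber.map (ψψ)) :=
    (ConcreteCategory.isIso_iff_bijective _).2
      ⟨psi_stalk_injective f φ (l ≫ ξ) hq, psi_stalk_surjective f φ hφ (l ≫ ξ) hgen hbc⟩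
  have := (NatIso.isIso_map_iff (EtFound.stalkExtIso (Type (u + 1)) ξ l) (ψψ)).2 this
  exact (ConcreteCategory.isIso_iff_bijective ((Scheme.pointSmallEtale ξ).sheafFiber.map (ψψ))).1 this

end Groth.Agent.EtDescBC
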